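import Mathlib
import Groth.Agent.StabLib.Filt
import Groth.Agent.HilbPolyLib.Ample
import Groth.Agent.GrTildeLib.MulTwist
import Groth.Agent.TwistLib.Ample
import Groth.Agent.ProjSecLib.Hyperplane
import Groth.Agent.ProjDegLib.Criterion
import Groth.Agent.PicPnLib.Twist
import Groth.Agent.CurvLib.Euler
import Groth.Prelude.Def_W4c2simpsonmod1HP

/-!
# Harder-Narasimhan filtrations on projective space, as finite sets of subobjects

Translation of `StabLib.existsUnique_hn` to Hilbert polynomials with all integer twists, to the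
divided comparison of reduced polynomials, and to chains recorded as finite sets.
-/

set_option autoImplicit false
universe u

open CategoryTheory CategoryTheory.Limits AlgebraicGeometry Opposite
open HilbPolyLib

noncomputable section

namespace PnHNLib

variable (n : ℕ) (k : Type u) [Field k]

local notation "PP" => CohB1.ProjSpace n k

theorem isInvertible_twist (m : ℤ) : PicF.IsInvertible (Twist.twistProjSpace n k m) :=
  TwistLib.twist_isInvertible (CohB1.polyGrading n k) (eq_top_iff.mpr fun x _ => by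
    obtain ⟨i, hi⟩ := ProjSecLib.cover (R := k) (n := n) x
    exact TopologicalSpace.Opens.mem_iSup.mpr ⟨⟨MvPolynomial.X i, ProjSecLib.X_mem i⟩, hi⟩) m

open scoped Classical in
theorem isAmple_twist_one : CohB1.IsAmple (Twist.twistProjSpace n k 1) :=
  TwistLib.twist_one_isAmple (CohB1.polyGrading n k)
    (Finset.univ.image (MvPolynomial.X : Fin (n + 1) → MvPolynomial (Fin (n + 1)) k))
    (fun f hf => by obtain ⟨i, -, rfl⟩ := Finset.mem_image.mp hf; exact ProjSecLib.X_mem i)
    (fun a ha => by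
      rw [Finset.coe_image, Finset.coe_univ, MvPolynomial.mem_ideal_span_X_image]
      intro e he
      by_contra h0
      push Not at h0
      obtain rfl : e = 0 := Finsupp.ext fun i => h0 i (Set.mem_univ i)
      refine (MvPolynomial.mem_support_iff.mp he) ?_
      rw [← DirectSum.sum_support_decompose (CohB1.polyGrading n k) a, MvPolynomial.coeff_sum]
      refine Finset.sum_eq_zero fun j _ => ?_
      by_contra hne
      obtain rfl : j = 0 := by
        simpa using ((DirectSum.decompose (CohB1.polyGrading n k) a j).2 hne).symm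
      have h00 : ((DirectSum.decompose (CohB1.polyGrading n k) a 0 : CohB1.polyGrading n k 0) :
          MvPolynomial (Fin (n + 1)) k) = 0 := by
        have := (HomogeneousIdeal.mem_irrelevant_iff (CohB1.polyGrading n k) a).mp ha
        rwa [GradedRing.proj_apply] at this
      rw [h00, MvPolynomial.coeff_zero] at hne
      exact hne rfl)

theorem pow_iso (m : ℕ) :
    Nonempty (CohB1.tensorPow (Twist.twistProjSpace n k 1) m ≅ Twist.twistProjSpace n k (m : ℤ)) := by
  obtain ⟨e₀⟩ := PicPnLib.twist_zero n k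
  have hcov : ∀ x : Proj (CohB1.polyGrading n k), ∃ g ∈ CohB1.polyGrading n k 1, g ∉ x.asHomogeneousIdeal :=
    fun x => by
      obtain ⟨i, hi⟩ := ProjSecLib.cover (R := k) (n := n) x
      exact ⟨MvPolynomial.X i, ProjSecLib.X_mem i, hi⟩
  induction m with
  | zero => exact ⟨e₀.symm⟩
  | succ m ih =>
    obtain ⟨e⟩ := ih
    obtain ⟨e'⟩ := GrTildeLib.twist_tensor_twist hcov (m : ℤ) 1
    refine ⟨congrLeft e (Twist.twistProjSpace n k 1) ≪≫ e' ≪≫ eqToIso ?_⟩
    rw [Nat.cast_succ]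
    rfl

theorem twist_iso (j : ℤ) (m : ℕ) (G : (PP).Modules) :
    Nonempty (ShStab.twist PP (Twist.twistProjSpace n k 1) (CohB1.tensorMod G (Twist.twistProjSpace n k j)) m ≅
      CohB1.tensorMod G (Twist.twistProjSpace n k (j + m))) := by
  have hcov : ∀ x : Proj (CohB1.polyGrading n k), ∃ g ∈ CohB1.polyGrading n k 1, g ∉ x.asHomogeneousIdeal :=
    fun x => by
      obtain ⟨i, hi⟩ := ProjSecLib.cover (R := k) (n := n) x
      exact ⟨MvPolynomial.X i, ProjSecLib.X_mem i, hi⟩
  obtain ⟨e⟩ := pow_iso n k m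
  obtain ⟨e'⟩ := GrTildeLib.twist_tensor_twist hcov j (m : ℤ)
  exact ⟨assocIso G _ _ ≪≫ congrRight G (congrRight _ e ≪≫ e')⟩

theorem twist_iso₀ (m : ℕ) (G : (PP).Modules) :
    Nonempty (ShStab.twist PP (Twist.twistProjSpace n k 1) G m ≅
      CohB1.tensorMod G (Twist.twistProjSpace n k (m : ℤ))) := by
  obtain ⟨e⟩ := pow_iso n k m
  exact ⟨congrRight G e⟩

theorem hilb_iff {G : (PP).Modules} (hG : Coh.IsCoh G) (φ : Polynomial ℚ) :
    (∀ m : ℤ, (Curv2.euler k PP (CohB1.tensorMod G (Twist.twistProjSpace n k m)) : ℚ) = φ.eval (m : ℚ)) ↔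
      ShStab.IsHilbPoly k PP (Twist.twistProjSpace n k 1) G φ := by
  haveI : IsProper (PP ↘ Spec (CommRingCat.of k)) := ProjDegLib.toSpec_isProper k n
  haveI := CurvLib.isNoetherian k (X := PP)
  constructor
  · intro h m
    obtain ⟨e⟩ := twist_iso₀ n k m G
    rw [CurvLib.euler_congr e, h m]
    norm_num
  · intro h m
    obtain ⟨a, rfl | rfl⟩ := m.eq_nat_or_neg
    · obtain ⟨e⟩ := twist_iso₀ n k a G
      rw [← CurvLib.euler_congr e, h a]
      norm_num
    · let G' := CohB1.tensorMod G (Twist.twistProjSpace n k (-(a : ℤ)))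
      have hG' : Coh.IsCoh G' := SerreVanLib.isCoh_tensor hG (isInvertible_twist n k _)
      have hP := StabLib.hPoly_spec (k := k) (isAmple_twist_one n k) hG'
      set P := StabLib.HPoly k (Twist.twistProjSpace n k 1) G' with hPdef
      have key : P.comp (Polynomial.X + Polynomial.C (a : ℚ)) = φ := by
        refine Polynomial.eq_of_infinite_eval_eq _ _ (Set.Infinite.mono ?_
          (Set.infinite_range_of_injective (f := fun i : ℕ => (i : ℚ)) Nat.cast_injective))
        rintro _ ⟨i, rfl⟩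
        obtain ⟨e⟩ := twist_iso n k (-(a : ℤ)) (i + a) G
        obtain ⟨e'⟩ := twist_iso₀ n k i G
        have h1 := hP (i + a)
        rw [CurvLib.euler_congr (e ≪≫ eqToIso (by push_cast; ring_nf) ≪≫ e'.symm), h i] at h1
        simp only [Set.mem_setOf_eq, Polynomial.eval_comp, Polynomial.eval_add, Polynomial.eval_X,
          Polynomial.eval_C]
        push_cast at h1
        exact h1.symm
      obtain ⟨e⟩ := twist_iso n k (-(a : ℤ)) 0 G
      have h0 := hP 0
      have hz : CohB1.tensorMod G (Twist.twistProjSpace n k (-(a : ℤ) + ((0 : ℕ) : ℤ))) =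
          CohB1.tensorMod G (Twist.twistProjSpace n k (-(a : ℤ))) := by simp
      rw [CurvLib.euler_congr (e ≪≫ eqToIso hz)] at h0
      rw [h0, ← key]
      simp

theorem eventually_iff {p : ℚ → Prop} :
    (∃ N : ℤ, ∀ m : ℤ, N ≤ m → p (m : ℚ)) ↔ ∃ N : ℕ, ∀ m : ℕ, N ≤ m → p (m : ℚ) := by
  constructor
  · rintro ⟨N, hN⟩
    refine ⟨N.toNat, fun m hm => ?_⟩
    have := hN (m : ℤ) (by omega)
    exact_mod_cast this
  · rintro ⟨N, hN⟩
    refine ⟨(N : ℤ), fun m hm => ?_⟩
    obtain ⟨i, rfl⟩ := Int.eq_ofNat_of_zero_le ((Int.natCast_nonneg N).trans hm)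
    have := hN i (by omega)
    exact_mod_cast this

theorem redLE_iff {d : ℕ} {ψ φ : Polynomial ℚ} (hψ : 0 < StabCat.alpha d ψ) (hφ : 0 < StabCat.alpha d φ) :
    W4c2simpsonmod1.RedLE d ψ φ ↔ StabCat.RedLE d ψ φ := by
  refine (eventually_iff (p := fun x => ψ.eval x / W4c2simpsonmod1.rankOf d ψ ≤
    φ.eval x / W4c2simpsonmod1.rankOf d φ)).trans ?_
  refine exists_congr fun N => forall_congr' fun m => forall_congr' fun _ => ?_
  rw [show W4c2simpsonmod1.rankOf d ψ = StabCat.alpha d ψ from rfl,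
    show W4c2simpsonmod1.rankOf d φ = StabCat.alpha d φ from rfl, div_le_div_iff₀ hψ hφ]
  simp [mul_comm]

theorem redLT_iff {d : ℕ} {ψ φ : Polynomial ℚ} (hψ : 0 < StabCat.alpha d ψ) (hφ : 0 < StabCat.alpha d φ) :
    W4c2simpsonmod1.RedLT d ψ φ ↔ StabCat.RedLT d ψ φ := by
  refine (eventually_iff (p := fun x => ψ.eval x / W4c2simpsonmod1.rankOf d ψ <
    φ.eval x / W4c2simpsonmod1.rankOf d φ)).trans ?_
  refine exists_congr fun N => forall_congr' fun m => forall_congr' fun _ => ?_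
  rw [show W4c2simpsonmod1.rankOf d ψ = StabCat.alpha d ψ from rfl,
    show W4c2simpsonmod1.rankOf d φ = StabCat.alpha d φ from rfl, div_lt_div_iff₀ hψ hφ]
  simp [mul_comm]

variable {n k}

/-- Purity and semistability of a module, in the form with integer twists. -/
def IsSS' (d : ℕ) (G : (PP).Modules) : Prop :=
  (topologicalKrullDim ↥(CohB1.support G) = (d : WithBot ℕ∞) ∧
      ∀ (H : (PP).Modules) (ι : H ⟶ G), Mono ι → Coh.IsCoh H → ¬ IsZero H →
        topologicalKrullDim ↥(CohB1.support H) = (d : WithBot ℕ∞)) ∧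
    ∀ (H : (PP).Modules) (ι : H ⟶ G), Mono ι → Coh.IsCoh H → ¬ IsZero H →
      ∀ φ ψ : Polynomial ℚ,
        (∀ m : ℤ, (Curv2.euler k PP (CohB1.tensorMod G (Twist.twistProjSpace n k m)) : ℚ) = φ.eval (m : ℚ)) →
        (∀ m : ℤ, (Curv2.euler k PP (CohB1.tensorMod H (Twist.twistProjSpace n k m)) : ℚ) = ψ.eval (m : ℚ)) →
          W4c2simpsonmod1.RedLE d ψ φ

theorem alpha_pos {d : ℕ} {G : (PP).Modules} (hG : Coh.IsCoh G)
    (hd : topologicalKrullDim ↥(CohB1.support G) = (d : WithBot ℕ∞)) {φ : Polynomial ℚ}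
    (hφ : ShStab.IsHilbPoly k PP (Twist.twistProjSpace n k 1) G φ) : 0 < StabCat.alpha d φ := by
  haveI : IsProper (PP ↘ Spec (CommRingCat.of k)) := ProjDegLib.toSpec_isProper k n
  rw [← StabLib.hPoly_eq (k := k) (isAmple_twist_one n k) hG hφ]
  exact (StabLib.hPoly_alpha_pos_iff (k := k) (isAmple_twist_one n k) hG hd.le).mpr hd

theorem not_isZero_of_dim {d : ℕ} {G : (PP).Modules}
    (hd : topologicalKrullDim ↥(CohB1.support G) = (d : WithBot ℕ∞)) : ¬ IsZero G := fun hz => by
  haveI : IsProper (PP ↘ Spec (CommRingCat.of k)) := ProjDegLib.toSpec_isProper k n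
  haveI := CurvLib.isNoetherian k (X := PP)
  rw [DevissLib.support_of_isZero hz] at hd
  haveI : IsEmpty (TopologicalSpace.IrreducibleCloseds (∅ : Set PP)) := ⟨fun Z => Z.isIrreducible.1.choose.2⟩
  rw [show topologicalKrullDim ↥(∅ : Set PP) = ⊥ from
    Order.krullDim_eq_bot (α := TopologicalSpace.IrreducibleCloseds (∅ : Set PP))] at hd
  exact absurd hd (by simp)

theorem semistable_iff {d : ℕ} {G : (PP).Modules} (hG : Coh.IsCoh G) :
    ShStab.IsSemistable k PP (Twist.twistProjSpace n k 1) G d ↔ IsSS' d G := by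
  haveI : IsProper (PP ↘ Spec (CommRingCat.of k)) := ProjDegLib.toSpec_isProper k n
  haveI := CurvLib.isNoetherian k (X := PP)
  constructor
  · rintro ⟨-, h0, hp, hss⟩
    have hd := hp G (𝟙 G) inferInstance hG h0
    refine ⟨⟨hd, hp⟩, fun H ι hι hH hH0 φ ψ hφ hψ => ?_⟩
    rw [hilb_iff n k hG] at hφ
    rw [hilb_iff n k hH] at hψ
    rw [redLE_iff (alpha_pos hH (hp H ι hι hH hH0) hψ) (alpha_pos hG hd hφ)]
    by_cases hi : IsIso ι
    · have : ψ = φ := by
        rw [← StabLib.hPoly_eq (k := k) (isAmple_twist_one n k) hH hψ,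
          ← StabLib.hPoly_eq (k := k) (isAmple_twist_one n k) hG hφ]
        exact StabLib.hPoly_congr (k := k) (isAmple_twist_one n k) hH (asIso ι)
      subst this
      exact ⟨0, fun m _ => le_rfl⟩
    · exact hss H ι hι hH hH0 hi ψ φ hψ hφ
  · rintro ⟨⟨hd, hp⟩, hss⟩
    refine ⟨hG, not_isZero_of_dim hd, hp, fun H ι hι hH hH0 _ ψ φ hψ hφ => ?_⟩
    rw [← redLE_iff (alpha_pos hH (hp H ι hι hH hH0) hψ) (alpha_pos hG hd hφ)]
    exact hss H ι hι hH hH0 φ ψ ((hilb_iff n k hG φ).mpr hφ) ((hilb_iff n k hH ψ).mpr hψ)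

/-- A chain of coherent submodules whose consecutive quotients are semistable with decreasing reduced
polynomials. -/
def IsHNChain (d : ℕ) {E : (PP).Modules} (C : Finset (Subobject E)) : Prop :=
  ⊥ ∈ C ∧ ⊤ ∈ C ∧ IsChain (fun A B : Subobject E => A ≤ B) (↑C : Set (Subobject E)) ∧
    (∀ A ∈ C, Coh.IsCoh (A : (PP).Modules)) ∧
    (∀ A ∈ C, ∀ B ∈ C, ∀ hAB : A < B, (∀ D ∈ C, ¬ (A < D ∧ D < B)) →
      IsSS' d (cokernel (Subobject.ofLE A B hAB.le))) ∧
    (∀ A ∈ C, ∀ B ∈ C, ∀ B' ∈ C, ∀ hAB : A < B, ∀ hBB : B < B',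
      (∀ D ∈ C, ¬ (A < D ∧ D < B)) → (∀ D ∈ C, ¬ (B < D ∧ D < B')) →
      ∀ ψ ψ' : Polynomial ℚ,
        (∀ m : ℤ, (Curv2.euler k PP (CohB1.tensorMod (cokernel (Subobject.ofLE A B hAB.le))
          (Twist.twistProjSpace n k m)) : ℚ) = ψ.eval (m : ℚ)) →
        (∀ m : ℤ, (Curv2.euler k PP (CohB1.tensorMod (cokernel (Subobject.ofLE B B' hBB.le))
          (Twist.twistProjSpace n k m)) : ℚ) = ψ'.eval (m : ℚ)) →
        W4c2simpsonmod1.RedLT d ψ' ψ)

theorem exists_series {E : (PP).Modules} {d : ℕ} {C : Finset (Subobject E)} (hC : IsHNChain d C) :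
    ∃ s : LTSeries (Subobject E), ShStab.IsHNFiltration k PP (Twist.twistProjSpace n k 1) E d s ∧
      ∀ A : Subobject E, A ∈ C ↔ A ∈ Set.range s.toFun := by
  haveI : IsProper (PP ↘ Spec (CommRingCat.of k)) := ProjDegLib.toSpec_isProper k n
  haveI := CurvLib.isNoetherian k (X := PP)
  classical
  obtain ⟨hbot, htop, hch, hcoh, hss, hred⟩ := hC
  letI : LinearOrder {x : Subobject E // x ∈ C} :=
    { (inferInstance : PartialOrder {x : Subobject E // x ∈ C}) with
      le_total := fun a b => by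
        by_cases h : a.1 = b.1
        · exact Or.inl (le_of_eq (Subtype.ext h))
        · exact hch a.2 b.2 h
      toDecidableLE := Classical.decRel _ }
  obtain ⟨l, hl⟩ : ∃ l, C.card = l + 1 := ⟨C.card - 1, by
    have := Finset.card_pos.mpr ⟨⊥, hbot⟩
    omega⟩
  let e : Fin (l + 1) ≃o {x : Subobject E // x ∈ C} :=
    monoEquivOfFin _ ((Fintype.card_coe C).trans hl)
  have hlt : ∀ {i j : Fin (l + 1)}, (e i).1 < (e j).1 ↔ i < j := fun {i j} =>
    (Iff.trans (Iff.rfl : (e i).1 < (e j).1 ↔ e i < e j) e.lt_iff_lt)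
  let s : LTSeries (Subobject E) := ⟨l, fun i => (e i).1, fun i => hlt.mpr i.castSucc_lt_succ⟩
  have hgap : ∀ i : Fin l, ∀ D ∈ C, ¬ ((e i.castSucc).1 < D ∧ D < (e i.succ).1) := by
    intro i D hD hh
    obtain ⟨j, hj⟩ := e.surjective ⟨D, hD⟩
    have hjD : (e j).1 = D := congrArg Subtype.val hj
    rw [← hjD] at hh
    have h1 : i.castSucc < j := hlt.mp hh.1
    have h2 : j < i.succ := hlt.mp hh.2
    simp only [Fin.lt_def, Fin.coe_castSucc, Fin.val_succ] at h1 h2
    omega
  have hcohf : ∀ i : Fin l, Coh.IsCoh (StabCat.factor s i) := fun i =>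
    StabLib.isCoh_cFac (a := ⟨(e i.castSucc).1, hcoh _ (e _).2⟩) (b := ⟨(e i.succ).1, hcoh _ (e _).2⟩)
      (hlt.mpr i.castSucc_lt_succ).le
  have hssf : ∀ i : Fin l, IsSS' d (StabCat.factor s i) := fun i =>
    hss _ (e i.castSucc).2 _ (e i.succ).2 (hlt.mpr i.castSucc_lt_succ) (hgap i)
  refine ⟨s, ⟨?_, ?_, fun i => (semistable_iff (hcohf i)).mpr (hssf i), ?_⟩, fun A => ⟨fun hA => ?_, ?_⟩⟩
  · obtain ⟨j, hj⟩ := e.surjective ⟨⊥, hbot⟩
    exact le_antisymm (le_of_le_of_eq (α := Subobject E) (e.monotone (Fin.zero_le j) : (e 0).1 ≤ (e j).1)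
      (congrArg Subtype.val hj)) bot_le
  · obtain ⟨j, hj⟩ := e.surjective ⟨⊤, htop⟩
    exact le_antisymm le_top (le_of_eq_of_le (α := Subobject E) (congrArg Subtype.val hj).symm
      (e.monotone (Fin.le_last j) : (e j).1 ≤ (e (Fin.last l)).1))
  · intro i j hij p q hp hq
    have hh : j.castSucc = i.succ := Fin.ext (by simp; omega)
    rw [← redLT_iff (alpha_pos (hcohf j) (hssf j).1.1 hq) (alpha_pos (hcohf i) (hssf i).1.1 hp)]
    have hBB : (e i.succ).1 < (e j.succ).1 := hh ▸ hlt.mpr j.castSucc_lt_succ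
    have e2 : StabCat.factor s j = cokernel (Subobject.ofLE (e i.succ).1 (e j.succ).1 hBB.le) := by
      have : ∀ (A A' B : Subobject E) (h : A = A') (h' : A ≤ B) (h'' : A' ≤ B),
          cokernel (Subobject.ofLE A B h') = cokernel (Subobject.ofLE A' B h'') := by
        intro A A' B h h' h''
        subst h
        rfl
      exact this _ _ _ (congrArg (fun t => (e t).1) hh) _ _
    refine hred _ (e i.castSucc).2 _ (e i.succ).2 _ (e j.succ).2 (hlt.mpr i.castSucc_lt_succ) hBB
      (hgap i) (fun D hD => ?_) p q ((hilb_iff n k (hcohf i) p).mpr hp) ?_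
    · have := hgap j D hD
      rwa [hh] at this
    · rw [← e2]
      exact (hilb_iff n k (hcohf j) q).mpr hq
  · obtain ⟨j, hj⟩ := e.surjective ⟨A, hA⟩
    exact ⟨j, congrArg Subtype.val hj⟩
  · rintro ⟨j, rfl⟩
    exact (e j).2

theorem isHNChain_image {E : (PP).Modules} (hE : Coh.IsCoh E) {d : ℕ} {s : LTSeries (Subobject E)}
    (hs : ShStab.IsHNFiltration k PP (Twist.twistProjSpace n k 1) E d s) [DecidableEq (Subobject E)] :
    IsHNChain d (Finset.univ.image s.toFun) := by
  haveI : IsProper (PP ↘ Spec (CommRingCat.of k)) := ProjDegLib.toSpec_isProper k n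
  haveI := CurvLib.isNoetherian k (X := PP)
  obtain ⟨hh, hl, hss, hred⟩ := hs
  obtain ⟨t, ht⟩ := StabLib.exists_lift hE s hl fun i => (hss i).1
  have hsm : StrictMono s.toFun := s.strictMono
  have hcons : ∀ a b : Fin (s.length + 1), s a < s b →
      (∀ D ∈ Finset.univ.image s.toFun, ¬ (s a < D ∧ D < s b)) →
      ∃ i : Fin s.length, a = i.castSucc ∧ b = i.succ := by
    intro a b hab hgap
    have hab' : a < b := hsm.lt_iff_lt.mp hab
    have ha : a.val < s.length := by
      have := b.isLt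
      rw [Fin.lt_def] at hab'
      omega
    refine ⟨⟨a.val, ha⟩, Fin.ext rfl, ?_⟩
    by_contra hne
    refine hgap (s.toFun (⟨a.val, ha⟩ : Fin s.length).succ)
      (Finset.mem_image_of_mem _ (Finset.mem_univ _)) ⟨hsm ?_, hsm ?_⟩
    · simp [Fin.lt_def]
    · rw [Fin.lt_def] at hab' ⊢
      have : b.val ≠ a.val + 1 := fun h => hne (Fin.ext (by simpa using h))
      simp only [Fin.val_succ]
      omega
  refine ⟨hh ▸ Finset.mem_image_of_mem _ (Finset.mem_univ _), hl ▸ Finset.mem_image_of_mem _ (Finset.mem_univ _),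
    ?_, ?_, ?_, ?_⟩
  · intro A hA B hB _
    obtain ⟨a, -, rfl⟩ := Finset.mem_image.mp hA
    obtain ⟨b, -, rfl⟩ := Finset.mem_image.mp hB
    rcases le_total a b with h | h
    · exact Or.inl (hsm.monotone h)
    · exact Or.inr (hsm.monotone h)
  · intro A hA
    obtain ⟨a, -, rfl⟩ := Finset.mem_image.mp hA
    subst ht
    exact (t a).2
  · intro A hA B hB hAB hgap
    obtain ⟨a, -, rfl⟩ := Finset.mem_image.mp hA
    obtain ⟨b, -, rfl⟩ := Finset.mem_image.mp hB
    obtain ⟨i, rfl, rfl⟩ := hcons a b hAB hgap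
    exact (semistable_iff (hss i).1).mp (hss i)
  · intro A hA B hB B' hB' hAB hBB hgap hgap' ψ ψ' hψ hψ'
    obtain ⟨a, -, rfl⟩ := Finset.mem_image.mp hA
    obtain ⟨b, -, rfl⟩ := Finset.mem_image.mp hB
    obtain ⟨c, -, rfl⟩ := Finset.mem_image.mp hB'
    obtain ⟨i, rfl, rfl⟩ := hcons a b hAB hgap
    obtain ⟨j, hj, rfl⟩ := hcons i.succ c hBB hgap'
    have e2 : cokernel (Subobject.ofLE (s.toFun i.succ) (s.toFun j.succ) hBB.le) = StabCat.factor s j := by
      have : ∀ (A A' B : Subobject E) (h : A = A') (h' : A ≤ B) (h'' : A' ≤ B),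
          cokernel (Subobject.ofLE A B h') = cokernel (Subobject.ofLE A' B h'') := by
        intro A A' B h h' h''
        subst h
        rfl
      exact this _ _ _ (congrArg s.toFun hj) _ _
    rw [e2] at hψ'
    have hp : ShStab.IsHilbPoly k PP (Twist.twistProjSpace n k 1) (StabCat.factor s i) ψ :=
      (hilb_iff n k (hss i).1 ψ).mp hψ
    have hq := (hilb_iff n k (hss j).1 ψ').mp hψ'
    rw [redLT_iff (alpha_pos (hss j).1 ((semistable_iff (hss j).1).mp (hss j)).1.1 hq)
      (alpha_pos (hss i).1 ((semistable_iff (hss i).1).mp (hss i)).1.1 hp)]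
    exact hred i j (by have := congrArg Fin.val hj; simpa using this) ψ ψ' hp hq

theorem existsUnique_hnChain {E : (PP).Modules} (hE : Coh.IsCoh E) {d : ℕ}
    (hd : topologicalKrullDim ↥(CohB1.support E) = (d : WithBot ℕ∞))
    (hp : ShStab.IsPure PP E d) : ∃! C : Finset (Subobject E), IsHNChain d C := by
  classical
  haveI : IsProper (PP ↘ Spec (CommRingCat.of k)) := ProjDegLib.toSpec_isProper k n
  haveI := CurvLib.isNoetherian k (X := PP)
  obtain ⟨s, hs, huniq⟩ :=
    StabLib.existsUnique_hn (k := k) (isAmple_twist_one n k) hE hd.le hp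
  refine ⟨Finset.univ.image s.toFun, isHNChain_image hE hs, fun C hC => ?_⟩
  obtain ⟨t, ht, hmem⟩ := exists_series hC
  obtain rfl := huniq t ht
  ext A
  rw [hmem, Finset.mem_image]
  simp

end PnHNLib
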